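import Groth.Agent.CohExtLib.Subobj
import Groth.Agent.PerfLib.Coherent

/-!
# Artin–Rees for the Deligne system of a complex
-/

set_option autoImplicit false
set_option linter.style.haveILetI false
set_option backward.isDefEq.respectTransparency false
set_option maxHeartbeats 1000000

universe u

open CategoryTheory CategoryTheory.Limits AlgebraicGeometry TopologicalSpace Opposite

noncomputable section

namespace Groth.Agent.DeligneLib

open QCohLib (appLin)

variable {X : Scheme.{u}}

/-- Artin–Rees as a factorisation. -/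
theorem exists_artinRees [IsNoetherian X] {F G : X.Modules} (hF : Coh.IsCoh F) [Coh.IsQCoh G] (ι : G ⟶ F) [Mono ι]
    (I : X.IdealSheafData) :
    ∃ c : ℕ, ∀ n : ℕ, c ≤ n → ∀ {T : X.Modules} (g : T ⟶ G) (h : T ⟶ (Dual3.idealMul (I ^ n)).obj F),
      h ≫ Dual3.idealMulι (I ^ n) F = g ≫ ι →
        ∃ k : T ⟶ (Dual3.idealMul (I ^ (n - c))).obj G, k ≫ Dual3.idealMulι (I ^ (n - c)) G = g := by
  obtain ⟨c, hc⟩ := CohExtLib.artin_rees hF ι I
  refine ⟨c, fun n hn T g h hgh => ?_⟩
  have hf : (Subobject.mk (Dual3.idealMulι (I ^ n) F) ⊓ Subobject.mk ι).Factors (g ≫ ι) :=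
    (Subobject.inf_factors _).2 ⟨(Subobject.mk_factors_iff _ _).2 ⟨h, hgh⟩,
      (Subobject.mk_factors_iff _ _).2 ⟨g, rfl⟩⟩
  let P := Subobject.mk (Dual3.idealMulι (I ^ c) F) ⊓ Subobject.mk ι
  haveI : Mono (Dual3.idealMulι (I ^ (n - c)) (Subobject.underlying.obj P) ≫ P.arrow) := mono_comp _ _
  rw [← hc n hn, Subobject.mk_factors_iff] at hf
  obtain ⟨k, hk⟩ : ∃ k : T ⟶ (Dual3.idealMul (I ^ (n - c))).obj (Subobject.underlying.obj P),
      k ≫ Dual3.idealMulι (I ^ (n - c)) (Subobject.underlying.obj P) ≫ P.arrow = g ≫ ι := hf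
  let q : Subobject.underlying.obj P ⟶ G := Subobject.ofLEMk P ι inf_le_right
  refine ⟨k ≫ (Dual3.idealMul (I ^ (n - c))).map q, ?_⟩
  rw [← cancel_mono ι]
  simp only [Category.assoc]
  rw [Dual3.idealMul_map_ι_assoc]
  rw [show q ≫ ι = P.arrow from Subobject.ofLEMk_comp _]
  exact hk

/-- `I · -` preserves epimorphisms of quasi-coherent modules. -/
theorem epi_idealMul_map (J : X.IdealSheafData) {M N : X.Modules} [Coh.IsQCoh M] [Coh.IsQCoh N] (φ : M ⟶ N) [Epi φ] :
    Epi ((Dual3.idealMul J).map φ) := by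
  haveI := CohExtLib.isQCoh_idealMul J N
  haveI : Coh.IsQCoh (kernel φ) := QCohLib.isQCoh_kernel φ
  refine Preadditive.epi_of_cokernel_zero (CohExtLib.hom_eq_zero_of_cover _ (C := Set.univ)
    (fun x => by obtain ⟨V, hV, hx⟩ := QCohLib.exists_affine_nhd x; exact ⟨⟨V, hV⟩, trivial, hx⟩) fun V _ s => ?_)
  have hsur : Function.Surjective (φ.app V.1) :=
    QCohLib.app_surjective_of_affine (S := ShortComplex.mk (kernel.ι φ) φ (kernel.condition φ))
      { exact := ShortComplex.exact_of_f_is_kernel _ (kernelIsKernel φ), mono_f := inferInstance, epi_g := ‹Epi φ› } V.2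
  have hs : (Dual3.idealMulι J N).app V.1 s ∈
      Submodule.map (appLin φ V.1) (J.ideal V • (⊤ : Submodule Γ(X, V.1) Γ(M, V.1))) := by
    have hr : LinearMap.range (appLin φ V.1) = ⊤ := LinearMap.range_eq_top.2 (show Function.Surjective (appLin φ V.1) from hsur)
    rw [Submodule.map_smul'', Submodule.map_top, hr]
    exact CohExtLib.app_idealMulι_mem J N V.2 s
  obtain ⟨z, hz, hzs⟩ := hs
  obtain ⟨w, rfl⟩ := CohExtLib.exists_of_mem J M V.2 hz
  have hw : ((Dual3.idealMul J).map φ).app V.1 w = s := by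
    refine QCohLib.app_injective_of_mono (Dual3.idealMulι J N) V.1 ?_
    exact (congrArg (fun g : (Dual3.idealMul J).obj M ⟶ N => g.app V.1 w) (Dual3.idealMul_map_ι J φ)).trans hzs
  rw [← hw]
  exact congrArg (fun g : (Dual3.idealMul J).obj M ⟶ _ => g.app V.1 w) (cokernel.condition ((Dual3.idealMul J).map φ))

theorem isQCoh_cycles (F : CochainComplex X.Modules ℤ) (hF : ∀ q, Coh.IsQCoh (F.X q)) (p : ℤ) :
    Coh.IsQCoh (F.cycles p) := by
  haveI := hF
  haveI := QCohLib.isQCoh_kernel (F.d p (p + 1))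
  haveI : Coh.IsQCoh (kernel (F.d p (p + 1))) := QCohLib.isQCoh_kernel _
  exact QCohLib.isQCoh_of_iso (M := kernel (F.d p (p + 1))) ((kernelIsKernel (F.d p (p + 1))).conePointUniqueUpToIso
    (F.cyclesIsKernel p (p + 1) (by simp)))

/-- The maps of pro-systems between `H^p(I^n F)` and `I^n H^p(F)`. -/
theorem exists_homology_artinRees [IsNoetherian X] (I : X.IdealSheafData) (F : CochainComplex X.Modules ℤ)
    (hFc : ∀ q : ℤ, Coh.IsCoh (F.X q)) (p : ℤ) :
    ∃ (c : ℕ) (φ : ∀ n : ℕ, ((Dual3.deligne I n).obj F).homology p ⟶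
        (Dual3.idealMul (I ^ (n - c))).obj (F.homology p))
      (ψ : ∀ n : ℕ, (Dual3.idealMul (I ^ n)).obj (F.homology p) ⟶ ((Dual3.deligne I (n - c)).obj F).homology p),
      0 < c ∧ (∀ n : ℕ, c ≤ n → φ n ≫ Dual3.idealMulι (I ^ (n - c)) (F.homology p) =
        HomologicalComplex.homologyMap (Dual3.deligneι I n F) p) ∧
      (∀ n : ℕ, c ≤ n → ψ n ≫ HomologicalComplex.homologyMap (Dual3.deligneι I (n - c) F) p =
        Dual3.idealMulι (I ^ n) (F.homology p)) ∧
      ∀ n : ℕ, 2 * c ≤ n → ∀ t : (Dual3.deligne I n).obj F ⟶ (Dual3.deligne I (n - c - c)).obj F,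
        t ≫ Dual3.deligneι I (n - c - c) F = Dual3.deligneι I n F →
          φ n ≫ ψ (n - c) = HomologicalComplex.homologyMap t p := by
  classical
  haveI hFq := fun q => (hFc q).1
  let Z := F.cycles p
  let H := F.homology p
  haveI hZq : Coh.IsQCoh Z := isQCoh_cycles F hFq p
  haveI hHq : Coh.IsQCoh H := (PerfLib.isCoh_homology F hFc p).1
  let iZ : Z ⟶ F.X p := F.iCycles p
  let π : Z ⟶ H := F.homologyπ p
  let B := kernel π
  haveI hBq : Coh.IsQCoh B := QCohLib.isQCoh_kernel π
  let iB : B ⟶ F.X p := kernel.ι π ≫ iZ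
  haveI : Mono iB := mono_comp _ _
  obtain ⟨cZ, hcZ⟩ := exists_artinRees (hFc p) iZ I
  obtain ⟨cB, hcB⟩ := exists_artinRees (hFc p) iB I
  let bnd : F.X (p - 1) ⟶ B := kernel.lift π (F.toCycles (p - 1) p) (F.toCycles_comp_homologyπ (p - 1) p)
  haveI hbnd : Epi bnd := by
    let hex : (ShortComplex.mk (F.toCycles (p - 1) p) π (F.toCycles_comp_homologyπ (p - 1) p)).Exact :=
      ShortComplex.exact_of_g_is_cokernel _ (F.homologyIsCokernel (p - 1) p (by simp))
    exact hex.epi_kernelLift
  let c := max (max cZ cB) 1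
  let K := fun m : ℕ => (Dual3.deligne I m).obj F
  let u : ∀ m : ℕ, K m ⟶ F := fun m => Dual3.deligneι I m F
  have hv : ∀ (n m : ℕ) (hmn : m ≤ n), ∃ v : (Dual3.idealMul (I ^ n)).obj Z ⟶ (K m).cycles p,
      v ≫ HomologicalComplex.cyclesMap (u m) p = Dual3.idealMulι (I ^ n) Z ∧
      v ≫ (K m).iCycles p = (Dual3.idealMul (I ^ n)).map iZ ≫ CohExtLib.inclMul (CohExtLib.pow_le_pow hmn) (F.X p) := by
    intro n m hmn
    let a := (Dual3.idealMul (I ^ n)).map iZ ≫ CohExtLib.inclMul (CohExtLib.pow_le_pow hmn) (F.X p)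
    have ha : a ≫ Dual3.idealMulι (I ^ m) (F.X p) = Dual3.idealMulι (I ^ n) Z ≫ iZ := by
      rw [Category.assoc, CohExtLib.inclMul_ι, Dual3.idealMul_map_ι]
    have ha0 : a ≫ (K m).d p (p + 1) = 0 := by
      show a ≫ (Dual3.idealMul (I ^ m)).map (F.d p (p + 1)) = 0
      rw [← cancel_mono (Dual3.idealMulι (I ^ m) (F.X (p + 1))), Category.assoc, Dual3.idealMul_map_ι, ← Category.assoc,
        ha, Category.assoc, F.iCycles_d, comp_zero, zero_comp]
    refine ⟨(K m).liftCycles a (p + 1) (by simp) ha0, ?_, (K m).liftCycles_i _ _ _ _⟩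
    rw [← cancel_mono (F.iCycles p), Category.assoc, HomologicalComplex.cyclesMap_i, ← Category.assoc,
      HomologicalComplex.liftCycles_i]
    exact ha
  have hφ : ∀ n : ℕ, c ≤ n → ∃ θ : (K n).cycles p ⟶ (Dual3.idealMul (I ^ (n - c))).obj Z,
      θ ≫ Dual3.idealMulι (I ^ (n - c)) Z = HomologicalComplex.cyclesMap (u n) p := by
    intro n hn
    obtain ⟨k, hk⟩ := hcZ n (by omega) (HomologicalComplex.cyclesMap (u n) p) ((K n).iCycles p)
      (HomologicalComplex.cyclesMap_i (u n) p).symm
    exact ⟨k ≫ CohExtLib.inclMul (CohExtLib.pow_le_pow (by omega)) Z, by rw [Category.assoc, CohExtLib.inclMul_ι, hk]⟩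
  have hφ' : ∀ n : ℕ, ∃ f : (K n).homology p ⟶ (Dual3.idealMul (I ^ (n - c))).obj H,
      c ≤ n → f ≫ Dual3.idealMulι (I ^ (n - c)) H = HomologicalComplex.homologyMap (u n) p := by
    intro n
    by_cases hn : c ≤ n
    · obtain ⟨θ, hθ⟩ := hφ n hn
      have h0 : (K n).toCycles (p - 1) p ≫ θ ≫ (Dual3.idealMul (I ^ (n - c))).map π = 0 := by
        rw [← cancel_mono (Dual3.idealMulι (I ^ (n - c)) H), Category.assoc, Category.assoc, Dual3.idealMul_map_ι,
          ← Category.assoc θ, hθ, ← HomologicalComplex.homologyπ_naturality, HomologicalComplex.toCycles_comp_homologyπ_assoc, zero_comp, zero_comp]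
      refine ⟨((K n).homologyIsCokernel (p - 1) p (by simp)).desc (CokernelCofork.ofπ _ h0), fun _ => ?_⟩
      rw [← cancel_epi ((K n).homologyπ p), HomologicalComplex.homologyπ_naturality]
      refine (Category.assoc _ _ _).symm.trans ?_
      rw [show (K n).homologyπ p ≫ ((K n).homologyIsCokernel (p - 1) p (by simp)).desc (CokernelCofork.ofπ _ h0) =
        θ ≫ (Dual3.idealMul (I ^ (n - c))).map π from
        Cofork.IsColimit.π_desc ((K n).homologyIsCokernel (p - 1) p (by simp)), Category.assoc, Dual3.idealMul_map_ι,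
        ← Category.assoc, hθ]
    · exact ⟨0, fun h => absurd h hn⟩
  choose φ hφι using hφ'
  have hψ' : ∀ n : ℕ, ∃ f : (Dual3.idealMul (I ^ n)).obj H ⟶ (K (n - c)).homology p,
      c ≤ n → ∀ v : (Dual3.idealMul (I ^ n)).obj Z ⟶ (K (n - c)).cycles p,
        v ≫ HomologicalComplex.cyclesMap (u (n - c)) p = Dual3.idealMulι (I ^ n) Z →
          (Dual3.idealMul (I ^ n)).map π ≫ f = v ≫ (K (n - c)).homologyπ p := by
    intro n
    by_cases hn : c ≤ n
    · obtain ⟨v, hv1, -⟩ := hv n (n - c) (Nat.sub_le n c)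
      haveI : Epi ((Dual3.idealMul (I ^ n)).map π) := epi_idealMul_map _ π
      let k := kernel.ι ((Dual3.idealMul (I ^ n)).map π)
      have hk : k ≫ v ≫ (K (n - c)).homologyπ p = 0 := by
        have hkB : (k ≫ Dual3.idealMulι (I ^ n) Z) ≫ π = 0 := by
          rw [Category.assoc, ← Dual3.idealMul_map_ι, ← Category.assoc, kernel.condition, zero_comp]
        obtain ⟨b, hb⟩ := hcB n (by omega) (kernel.lift π (k ≫ Dual3.idealMulι (I ^ n) Z) hkB)
          (k ≫ (Dual3.idealMul (I ^ n)).map iZ) (by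
            rw [Category.assoc, Dual3.idealMul_map_ι, kernel.lift_ι_assoc, Category.assoc])
        let m := n - c
        have hm : m ≤ n - cB := by omega
        haveI : Epi ((Dual3.idealMul (I ^ m)).map bnd) := epi_idealMul_map _ bnd
        have hkv : k ≫ v = b ≫ CohExtLib.inclMul (CohExtLib.pow_le_pow hm) B ≫
            (Dual3.idealMul (I ^ m)).map (kernel.ι π) ≫ (hv m m le_rfl).choose := by
          haveI : Mono (HomologicalComplex.cyclesMap (u m) p) := by
            haveI : Mono ((u m).f p) := Dual3.mono_idealMulι (I ^ m) (F.X p)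
            haveI : Mono (HomologicalComplex.cyclesMap (u m) p ≫ F.iCycles p) := by
              rw [HomologicalComplex.cyclesMap_i]; exact mono_comp _ _
            exact mono_of_mono _ (F.iCycles p)
          rw [← cancel_mono (HomologicalComplex.cyclesMap (u m) p)]
          simp only [Category.assoc]
          rw [hv1, (hv m m le_rfl).choose_spec.1, Dual3.idealMul_map_ι, CohExtLib.inclMul_ι_assoc, ← Category.assoc b,
            hb, kernel.lift_ι]
        rw [← Category.assoc, hkv]
        simp only [Category.assoc]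
        suffices h : (Dual3.idealMul (I ^ m)).map (kernel.ι π) ≫ (hv m m le_rfl).choose ≫ (K m).homologyπ p = 0 by
          rw [h, comp_zero, comp_zero]
        rw [← cancel_epi ((Dual3.idealMul (I ^ m)).map bnd), comp_zero, ← Category.assoc, ← Functor.map_comp,
          kernel.lift_ι, ← Category.assoc]
        have h2 : (Dual3.idealMul (I ^ m)).map (F.toCycles (p - 1) p) ≫ (hv m m le_rfl).choose =
            (K m).toCycles (p - 1) p := by
          haveI : Mono ((u m).f p) := Dual3.mono_idealMulι (I ^ m) (F.X p)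
          rw [← cancel_mono ((K m).iCycles p), ← cancel_mono ((u m).f p), HomologicalComplex.toCycles_i]
          simp only [Category.assoc]
          rw [← HomologicalComplex.cyclesMap_i (u m) p, ← Category.assoc (hv m m le_rfl).choose,
            (hv m m le_rfl).choose_spec.1, Dual3.idealMul_map_ι_assoc, F.toCycles_i]
          exact (Dual3.idealMul_map_ι (I ^ m) (F.d (p - 1) p)).symm
        rw [h2, HomologicalComplex.toCycles_comp_homologyπ]
      let hex : (ShortComplex.mk k ((Dual3.idealMul (I ^ n)).map π) (kernel.condition _)).Exact :=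
        ShortComplex.exact_of_f_is_kernel _ (kernelIsKernel _)
      refine ⟨hex.desc _ hk, fun _ v' hv' => ?_⟩
      have : v' = v := by
        haveI : Mono (HomologicalComplex.cyclesMap (u (n - c)) p) := by
          haveI : Mono ((u (n - c)).f p) := Dual3.mono_idealMulι (I ^ (n - c)) (F.X p)
          haveI : Mono (HomologicalComplex.cyclesMap (u (n - c)) p ≫ F.iCycles p) := by
            rw [HomologicalComplex.cyclesMap_i]; exact mono_comp _ _
          exact mono_of_mono _ (F.iCycles p)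
        rw [← cancel_mono (HomologicalComplex.cyclesMap (u (n - c)) p), hv', hv1]
      rw [this]
      exact hex.g_desc _ hk
    · exact ⟨0, fun h => absurd h hn⟩
  choose ψ hψπ using hψ'
  refine ⟨c, φ, ψ, by omega, hφι, fun n hn => ?_, fun n hn t ht => ?_⟩
  · haveI : Epi ((Dual3.idealMul (I ^ n)).map π) := epi_idealMul_map _ π
    obtain ⟨v, hv1, -⟩ := hv n (n - c) (Nat.sub_le n c)
    rw [← cancel_epi ((Dual3.idealMul (I ^ n)).map π), ← Category.assoc, hψπ n hn v hv1, Category.assoc,
      HomologicalComplex.homologyπ_naturality, ← Category.assoc, hv1, Dual3.idealMul_map_ι]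
  · obtain ⟨θ, hθ⟩ := hφ n (by omega)
    obtain ⟨v, hv1, -⟩ := hv (n - c) (n - c - c) (Nat.sub_le _ _)
    rw [← cancel_epi ((K n).homologyπ p), HomologicalComplex.homologyπ_naturality, ← Category.assoc,
      show (K n).homologyπ p ≫ φ n = θ ≫ (Dual3.idealMul (I ^ (n - c))).map π from ?_, Category.assoc,
      hψπ (n - c) (by omega) v hv1, ← Category.assoc]
    · congr 1
      haveI : Mono ((u (n - c - c)).f p) := Dual3.mono_idealMulι (I ^ (n - c - c)) (F.X p)
      haveI : Mono (HomologicalComplex.cyclesMap (u (n - c - c)) p) := by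
        haveI : Mono (HomologicalComplex.cyclesMap (u (n - c - c)) p ≫ F.iCycles p) := by
          rw [HomologicalComplex.cyclesMap_i]; exact mono_comp _ _
        exact mono_of_mono _ (F.iCycles p)
      rw [← cancel_mono (HomologicalComplex.cyclesMap (u (n - c - c)) p), Category.assoc, hv1, hθ,
        ← HomologicalComplex.cyclesMap_comp]
      exact congrArg (fun g => HomologicalComplex.cyclesMap g p) ht.symm
    · haveI := Dual3.mono_idealMulι (I ^ (n - c)) H
      rw [← cancel_mono (Dual3.idealMulι (I ^ (n - c)) H), Category.assoc, hφι n (by omega),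
        HomologicalComplex.homologyπ_naturality, Category.assoc, Dual3.idealMul_map_ι, ← Category.assoc, hθ]

end Groth.Agent.DeligneLib
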