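import Mathlib.Algebra.Homology.Homotopy
import Mathlib.CategoryTheory.Abelian.Basic
import Mathlib.Data.Int.Interval

/-!
# Homotopy classes of maps out of an inverse system of subcomplexes
-/

set_option autoImplicit false
set_option linter.style.haveILetI false
set_option backward.isDefEq.respectTransparency false
set_option backward.isDefEq.respectTransparency.types false

universe v v' u u'

open CategoryTheory CategoryTheory.Limits HomologicalComplex

noncomputable section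

namespace Groth.Agent.DeligneLib

variable {A : Type u} [Category.{v} A] [Abelian A] {B : Type u'} [Category.{v'} B] [Abelian B]

/-- A decreasing system of subfunctors computing maps after applying `R`. -/
structure Sys (R : A ⥤ B) (M : ℕ → A ⥤ A) (S T : A → Prop) where
  ι : ∀ n (G : A), (M n).obj G ⟶ G
  ι_nat : ∀ n {G G' : A} (d : G ⟶ G'), (M n).map d ≫ ι n G' = ι n G ≫ d
  mono : ∀ n G, Mono (ι n G)
  incl : ∀ {n m : ℕ}, n ≤ m → ∀ G, (M m).obj G ⟶ (M n).obj G
  incl_ι : ∀ {n m : ℕ} (h : n ≤ m) (G : A), incl h G ≫ ι n G = ι m G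
  iso : ∀ n G, IsIso (R.map (ι n G))
  lift : ∀ {G F : A}, S G → T F → ∀ φ : R.obj G ⟶ R.obj F,
    ∃ (n : ℕ) (ψ : (M n).obj G ⟶ F), R.map ψ = R.map (ι n G) ≫ φ
  kill : ∀ {G F : A}, S G → T F → ∀ (n : ℕ) (ψ : (M n).obj G ⟶ F), R.map ψ = 0 →
    ∃ (m : ℕ) (h : n ≤ m), incl h G ≫ ψ = 0

variable {R : A ⥤ B} [R.Additive] {M : ℕ → A ⥤ A} [∀ n, (M n).Additive] {S T : A → Prop} (σ : Sys R M S T)

include σ in
theorem incl_comp {a b c : ℕ} (h : a ≤ b) (h' : b ≤ c) (G : A) :
    σ.incl h' G ≫ σ.incl h G = σ.incl (h.trans h') G := by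
  haveI := σ.mono a G
  rw [← cancel_mono (σ.ι a G), Category.assoc, σ.incl_ι, σ.incl_ι, σ.incl_ι]

theorem incl_natural {a b : ℕ} (h : a ≤ b) {G G' : A} (d : G ⟶ G') :
    σ.incl h G ≫ (M a).map d = (M b).map d ≫ σ.incl h G' := by
  haveI := σ.mono a G'
  have h1 : (M a).map d ≫ σ.ι a G' = σ.ι a G ≫ d := σ.ι_nat a d
  have h2 : (M b).map d ≫ σ.ι b G' = σ.ι b G ≫ d := σ.ι_nat b d
  rw [← cancel_mono (σ.ι a G'), Category.assoc, Category.assoc, h1, σ.incl_ι, h2, reassoc_of% (σ.incl_ι h G)]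

variable (F : CochainComplex A ℤ)

/-- The subcomplexes. -/
abbrev sub (n : ℕ) : CochainComplex A ℤ := ((M n).mapHomologicalComplex _).obj F

/-- The inclusion. -/
def subι (n : ℕ) : sub (M := M) F n ⟶ F where
  f q := σ.ι n (F.X q)
  comm' i j _ := (σ.ι_nat n (F.d i j)).symm

/-- The transition maps. -/
def subIncl {n m : ℕ} (h : n ≤ m) : sub (M := M) F m ⟶ sub (M := M) F n where
  f q := σ.incl h (F.X q)
  comm' _ _ _ := incl_natural σ h _

theorem subIncl_ι {n m : ℕ} (h : n ≤ m) : subIncl σ F h ≫ subι σ F n = subι σ F m :=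
  HomologicalComplex.hom_ext _ _ fun _ => σ.incl_ι h _

variable {F} {J : CochainComplex A ℤ} (hS : ∀ q, S (F.X q)) (hT : ∀ q, T (J.X q)) {lo hi : ℤ}
  (hF : ∀ q, q < lo ∨ hi < q → IsZero (F.X q))

include σ hF in
theorem isZero_sub (n : ℕ) (q : ℤ) (hq : q < lo ∨ hi < q) : IsZero ((sub (M := M) F n).X q) :=
  haveI := σ.mono n (F.X q)
  IsZero.of_mono (σ.ι n (F.X q)) (hF q hq)

omit [Abelian A] in
/-- Finitely many degrees can be treated at one level. -/
theorem exists_uniform (a b : ℤ) (Q : ℤ → ℕ → Prop) (hmono : ∀ q n m, n ≤ m → Q q n → Q q m)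
    (hout : ∀ q, (q < a ∨ b < q) → ∀ n, Q q n) (hex : ∀ q, ∃ n, Q q n) : ∃ N, ∀ q, Q q N := by
  choose n hn using hex
  refine ⟨(Finset.Icc a b).sup n, fun q => ?_⟩
  by_cases hq : q ∈ Finset.Icc a b
  · exact hmono q _ _ (Finset.le_sup hq) (hn q)
  · refine hout q ?_ _
    simp only [Finset.mem_Icc, not_and_or, not_le] at hq
    exact hq

include hS hT hF in
/-- Maps after `R` come from a subcomplex. -/
theorem exists_lift_hom (f : (R.mapHomologicalComplex _).obj F ⟶ (R.mapHomologicalComplex _).obj J) :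
    ∃ (n : ℕ) (ψ : sub (M := M) F n ⟶ J),
      (R.mapHomologicalComplex _).map ψ = (R.mapHomologicalComplex _).map (subι σ F n) ≫ f := by
  let Q : ℤ → ℕ → Prop := fun q n => ∃ ψ : (M n).obj (F.X q) ⟶ J.X q,
    R.map ψ = R.map (σ.ι n (F.X q)) ≫ f.f q
  obtain ⟨N, hN⟩ := exists_uniform lo hi Q
    (fun q n m h ⟨ψ, hψ⟩ => ⟨σ.incl h _ ≫ ψ, by
      rw [R.map_comp, hψ, ← Category.assoc, ← R.map_comp, σ.incl_ι]⟩)
    (fun q hq n => ⟨0, (R.map_isZero (isZero_sub σ hF n q hq)).eq_of_src _ _⟩)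
    (fun q => σ.lift (hS q) (hT q) (f.f q))
  choose ψ hψ using hN
  let E : ∀ q : ℤ, (sub (M := M) F N).X q ⟶ J.X (q + 1) := fun q =>
    (M N).map (F.d q (q + 1)) ≫ ψ (q + 1) - ψ q ≫ J.d q (q + 1)
  have hE : ∀ q, R.map (E q) = 0 := fun q => by
    have h1 : (M N).map (F.d q (q + 1)) ≫ σ.ι N (F.X (q + 1)) = σ.ι N (F.X q) ≫ F.d q (q + 1) :=
      σ.ι_nat N _
    have h2 : f.f q ≫ R.map (J.d q (q + 1)) = R.map (F.d q (q + 1)) ≫ f.f (q + 1) := f.comm q (q + 1)
    rw [R.map_sub, R.map_comp, R.map_comp, hψ, hψ, Category.assoc, h2, ← Category.assoc, ← R.map_comp, h1,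
      R.map_comp, Category.assoc, sub_self]
  obtain ⟨k, hk⟩ := exists_uniform lo hi (fun q k => σ.incl (Nat.le_add_right N k) (F.X q) ≫ E q = 0)
    (fun q n m h hq => by
      rw [← incl_comp σ (Nat.le_add_right N n) (Nat.add_le_add_left h N), Category.assoc, hq, comp_zero])
    (fun q hq n => (isZero_sub σ hF _ q hq).eq_of_src _ _)
    (fun q => by
      obtain ⟨m, h, h'⟩ := σ.kill (hS q) (hT (q + 1)) N (E q) (hE q)
      refine ⟨m, ?_⟩
      rw [← incl_comp σ h (Nat.le_add_left m N), Category.assoc, h', comp_zero])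
  have hNm : N ≤ N + k := Nat.le_add_right N k
  refine ⟨N + k, { f := fun q => σ.incl hNm (F.X q) ≫ ψ q, comm' := ?_ }, ?_⟩
  · rintro i j (rfl : i + 1 = j)
    have := hk i
    rw [Preadditive.comp_sub, sub_eq_zero] at this
    show (σ.incl hNm (F.X i) ≫ ψ i) ≫ J.d i (i + 1) =
      (M (N + k)).map (F.d i (i + 1)) ≫ σ.incl hNm (F.X (i + 1)) ≫ ψ (i + 1)
    rw [← reassoc_of% (incl_natural σ hNm (F.d i (i + 1))), this, Category.assoc]
  · ext q
    show R.map (σ.incl hNm (F.X q) ≫ ψ q) = R.map (σ.ι (N + k) (F.X q)) ≫ f.f q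
    rw [R.map_comp, hψ, ← Category.assoc, ← R.map_comp, σ.incl_ι]

include hS hT hF in
/-- Maps null-homotopic after `R` become null-homotopic on a smaller subcomplex. -/
theorem exists_homotopy {n : ℕ} (f : sub (M := M) F n ⟶ J) (H : Homotopy ((R.mapHomologicalComplex _).map f) 0) :
    ∃ (m : ℕ) (h : n ≤ m), Nonempty (Homotopy (subIncl σ F h ≫ f) 0) := by
  haveI := fun q => σ.iso n (F.X q)
  let Q : ℤ → ℕ → Prop := fun q k => ∃ ψ : (M (n + k)).obj (F.X (q + 1)) ⟶ J.X q,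
    R.map ψ = R.map (σ.incl (Nat.le_add_right n k) _) ≫ H.hom (q + 1) q
  obtain ⟨N, hN⟩ := exists_uniform (lo - 1) (hi - 1) Q
    (fun q k m h ⟨ψ, hψ⟩ => ⟨σ.incl (Nat.add_le_add_left h n) _ ≫ ψ, by
      rw [R.map_comp, hψ, ← Category.assoc, ← R.map_comp, incl_comp σ]⟩)
    (fun q hq k => ⟨0, (R.map_isZero (isZero_sub σ hF _ (q + 1) (by omega))).eq_of_src _ _⟩)
    (fun q => by
      obtain ⟨k, ψ, hψ⟩ := σ.lift (hS (q + 1)) (hT q) (inv (R.map (σ.ι n (F.X (q + 1)))) ≫ H.hom (q + 1) q)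
      refine ⟨k, σ.incl (Nat.le_add_left k n) _ ≫ ψ, ?_⟩
      rw [R.map_comp, hψ, ← Category.assoc, ← R.map_comp, σ.incl_ι, ← σ.incl_ι (Nat.le_add_right n k), R.map_comp,
        Category.assoc, IsIso.hom_inv_id_assoc])
  choose t ht using hN
  have hn : n ≤ n + N := Nat.le_add_right n N
  let hh : ∀ i j : ℤ, (sub (M := M) F (n + N)).X i ⟶ J.X j := fun i j =>
    if h : j + 1 = i then eqToHom (congrArg (fun z => (M (n + N)).obj (F.X z)) h.symm) ≫ t j else 0
  have hhR : ∀ i j, R.map (hh i j) = R.map (σ.incl hn (F.X i)) ≫ H.hom i j := by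
    intro i j
    by_cases h : j + 1 = i
    · subst h
      simp only [hh, dif_pos, eqToHom_refl, Category.id_comp]
      exact ht j
    · simp only [hh, dif_neg h, R.map_zero]
      rw [H.zero i j (by simpa using h), comp_zero]
  let E : ∀ i : ℤ, (sub (M := M) F (n + N)).X i ⟶ J.X i := fun i =>
    (subIncl σ F hn ≫ f).f i - (dNext i hh + prevD i hh)
  have hE : ∀ i, R.map (E i) = 0 := by
    intro i
    have h0 := H.comm i
    rw [HomologicalComplex.zero_f, add_zero, dNext_eq H.hom (i' := i + 1) (by simp), prevD_eq H.hom (j' := i - 1) (by simp)] at h0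
    rw [R.map_sub, dNext_eq hh (i' := i + 1) (by simp), prevD_eq hh (j' := i - 1) (by simp), R.map_add, R.map_comp,
      R.map_comp, hhR, hhR, sub_eq_zero]
    have h1 : R.map ((M (n + N)).map (F.d i (i + 1))) ≫ R.map (σ.incl hn (F.X (i + 1))) =
        R.map (σ.incl hn (F.X i)) ≫ R.map ((M n).map (F.d i (i + 1))) := by
      rw [← R.map_comp, ← R.map_comp, incl_natural σ]
    show R.map (σ.incl hn (F.X i) ≫ f.f i) =
      R.map ((M (n + N)).map (F.d i (i + 1))) ≫ R.map (σ.incl hn _) ≫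
        (show R.obj ((M n).obj (F.X (i + 1))) ⟶ R.obj (J.X i) from H.hom (i + 1) i) +
        (R.map (σ.incl hn _) ≫ (show R.obj ((M n).obj (F.X i)) ⟶ R.obj (J.X (i - 1)) from H.hom i (i - 1))) ≫ R.map (J.d (i - 1) i)
    rw [reassoc_of% h1, Category.assoc, ← Preadditive.comp_add, R.map_comp]
    exact congrArg (R.map (σ.incl hn (F.X i)) ≫ ·) h0
  obtain ⟨k, hk⟩ := exists_uniform lo hi (fun q k => σ.incl (Nat.le_add_right (n + N) k) (F.X q) ≫ E q = 0)
    (fun q a b h hq => by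
      rw [← incl_comp σ (Nat.le_add_right (n + N) a) (Nat.add_le_add_left h (n + N)), Category.assoc, hq, comp_zero])
    (fun q hq a => (isZero_sub σ hF _ q hq).eq_of_src _ _)
    (fun q => by
      obtain ⟨m, h, h'⟩ := σ.kill (hS q) (hT q) (n + N) (E q) (hE q)
      refine ⟨m, ?_⟩
      rw [← incl_comp σ h (Nat.le_add_left m (n + N)), Category.assoc, h', comp_zero])
  have hk' : n + N ≤ n + N + k := Nat.le_add_right _ k
  refine ⟨n + N + k, hn.trans hk', ⟨{ hom := fun i j => σ.incl hk' (F.X i) ≫ hh i j, zero := ?_, comm := ?_ }⟩⟩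
  · intro i j h
    simp only [hh]
    rw [dif_neg (by simpa using h), comp_zero]
  · intro i
    have h1 := hk i
    rw [Preadditive.comp_sub, sub_eq_zero] at h1
    rw [HomologicalComplex.zero_f, add_zero, dNext_eq _ (i' := i + 1) (by simp), prevD_eq _ (j' := i - 1) (by simp)]
    rw [dNext_eq hh (i' := i + 1) (by simp), prevD_eq hh (j' := i - 1) (by simp), Preadditive.comp_add] at h1
    show σ.incl (hn.trans hk') (F.X i) ≫ f.f i = _
    rw [← incl_comp σ hn hk', Category.assoc]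
    refine h1.trans ?_
    congr 1
    · exact (Category.assoc _ _ _).symm.trans ((congrArg (· ≫ hh (i + 1) i) (incl_natural σ hk' (F.d i (i + 1)))).trans
        (Category.assoc _ _ _))
    · exact (Category.assoc _ _ _).symm

end Groth.Agent.DeligneLib
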